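import Cfsg.Agent.H844.K5.Base
import Cfsg.Agent.GH.L2AutSyl
import Cfsg.Agent.GH.Defs

/-!
# S4874, `p = 2`, task T9: Sylow 2-subgroups with a cyclic subgroup of index 2 (helper115)

* `exists_mem_sylow` : if `2 |u| = |P|`, `u ∈ P`, every automorphism of `⟨u⟩` induced by `G` is induced by `P`;
* `maxClass` : `k(B₀) = 5`, `l(B₀) ≥ 2`, `16 ∣ |G|` exclude nonabelian Sylow 2-subgroups with a cyclic subgroup
  of index 2;
* `row_l2odd` : the row `PSL₂(q)`, `q` odd.
-/

set_option autoImplicit false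

open Cfsg Subgroup

namespace Cfsg.Agent.H115.K5

open Cfsg.Agent.H844.K5 Cfsg.Agent.GH.Defs

universe u

section gp

variable {G : Type*} [Group G] [Finite G]

/-- automorphisms of a cyclic 2-group form a 2-group -/
theorem isPGroup_mulAut {x : G} {m : ℕ} (ho : orderOf x = 2 ^ m) : IsPGroup 2 (MulAut ↥(zpowers x)) := by
  have hc := IsCyclic.card_mulAut ↥(zpowers x)
  rw [Nat.card_zpowers, ho] at hc
  rcases Nat.eq_zero_or_pos m with rfl | hm
  · rw [pow_zero, Nat.totient_one] at hc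
    exact IsPGroup.of_card (n := 0) (by rw [hc, pow_zero])
  · rw [Nat.totient_prime_pow Nat.prime_two hm] at hc
    exact IsPGroup.of_card (n := m - 1) (by rw [hc]; norm_num)

theorem zpowers_relIndex {P : Sylow 2 G} {x : G} (hx : x ∈ P) (ho : 2 * orderOf x = Nat.card (P : Subgroup G)) :
    ((zpowers x).subgroupOf (P : Subgroup G)).index = 2 := by
  have h1 := Subgroup.card_mul_index ((zpowers x).subgroupOf (P : Subgroup G))
  have hle : zpowers x ≤ (P : Subgroup G) := zpowers_le.2 hx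
  rw [Nat.card_congr (Subgroup.subgroupOfEquivOfLe hle).toEquiv, Nat.card_zpowers] at h1
  have h2 : 0 < orderOf x := orderOf_pos x
  have h3 : orderOf x * ((zpowers x).subgroupOf (P : Subgroup G)).index = orderOf x * 2 := by
    rw [h1, ← ho]; ring
  exact Nat.eq_of_mul_eq_mul_left h2 h3

theorem mul_mem_zpowers {P : Sylow 2 G} {x : G} (hx : x ∈ P) (ho : 2 * orderOf x = Nat.card (P : Subgroup G))
    {a b : G} (ha : a ∈ P) (hb : b ∈ P) (ha' : a ∉ zpowers x) (hb' : b ∉ zpowers x) : a * b ∈ zpowers x := by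
  have h := (Subgroup.mul_mem_iff_of_index_two (zpowers_relIndex hx ho) (a := ⟨a, ha⟩) (b := ⟨b, hb⟩)).2
    (iff_of_false (fun h => ha' (mem_subgroupOf.1 h)) (fun h => hb' (mem_subgroupOf.1 h)))
  exact mem_subgroupOf.1 h

theorem conj_mem_zpowers {P : Sylow 2 G} {x : G} (hx : x ∈ P) (ho : 2 * orderOf x = Nat.card (P : Subgroup G))
    {a b : G} (ha : a ∈ P) (hb : b ∈ zpowers x) : a * b * a⁻¹ ∈ zpowers x := by
  have hn := Subgroup.normal_of_index_eq_two (zpowers_relIndex hx ho)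
  have hb' : b ∈ (P : Subgroup G) := zpowers_le.2 hx hb
  exact mem_subgroupOf.1 (hn.conj_mem ⟨b, hb'⟩ (mem_subgroupOf.2 hb) ⟨a, ha⟩)

theorem sylow_le_normalizer {P : Sylow 2 G} {x : G} (hx : x ∈ P)
    (ho : 2 * orderOf x = Nat.card (P : Subgroup G)) :
    (P : Subgroup G) ≤ normalizer ((zpowers x : Subgroup G) : Set G) := by
  intro a ha
  rw [Subgroup.mem_normalizer_iff]
  intro b
  refine ⟨fun hb => conj_mem_zpowers hx ho ha hb, fun hb => ?_⟩
  have h := conj_mem_zpowers hx ho (inv_mem ha) hb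
  rw [inv_inv] at h
  have h1 : a⁻¹ * (a * b * a⁻¹) * a = b := by group
  rwa [h1] at h

/-- Automorphisms of `⟨x⟩` induced by `G` are induced by `P`. -/
theorem exists_mem_sylow {P : Sylow 2 G} {x : G} (hx : x ∈ P) (ho : 2 * orderOf x = Nat.card (P : Subgroup G))
    {a : G} {j : ℤ} (ha : a * x * a⁻¹ = x ^ j) : ∃ p ∈ P, p * x * p⁻¹ = x ^ j := by
  have h2 : Fact (Nat.Prime 2) := ⟨Nat.prime_two⟩
  obtain ⟨m, hm⟩ : ∃ m : ℕ, orderOf x = 2 ^ m := by
    obtain ⟨k, hk⟩ := IsPGroup.iff_orderOf.1 P.isPGroup' ⟨x, hx⟩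
    exact ⟨k, by rw [← hk]; exact (Subgroup.orderOf_mk x hx).symm⟩
  have hPN := sylow_le_normalizer hx ho
  have haN : a ∈ normalizer ((zpowers x : Subgroup G) : Set G) := by
    have hle : (zpowers x).map (MulAut.conj a).toMonoidHom ≤ zpowers x := by
      rw [MonoidHom.map_zpowers, zpowers_le]
      exact mem_zpowers_iff.2 ⟨j, ha.symm⟩
    have heq : (zpowers x).map (MulAut.conj a).toMonoidHom = zpowers x := by
      refine Subgroup.eq_of_le_of_card_ge hle (le_of_eq ?_)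
      exact Nat.card_congr ((zpowers x).equivMapOfInjective _ (MulAut.conj a).injective).toEquiv
    rw [Subgroup.mem_normalizer_iff]
    intro b
    constructor
    · intro hb
      rw [← heq]
      exact ⟨b, hb, rfl⟩
    · intro hb
      rw [← heq] at hb
      obtain ⟨c, hc, hcb⟩ := hb
      have hcb' : a * c * a⁻¹ = a * b * a⁻¹ := hcb
      have h1 : c = b := mul_left_cancel (mul_right_cancel hcb')
      exact h1 ▸ hc
  let φ := (zpowers x).normalizerMonoidHom
  have hφ : IsPGroup 2 φ.range := (isPGroup_mulAut hm).to_subgroup _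
  let P' : Sylow 2 ↥(normalizer ((zpowers x : Subgroup G) : Set G)) := P.subtype hPN
  have htop : (P'.mapSurjective φ.rangeRestrict_surjective : Subgroup φ.range) = ⊤ := by
    have h1 := (P'.mapSurjective φ.rangeRestrict_surjective).is_maximal' (Q := ⊤)
      (hφ.to_subgroup ⊤) le_top
    exact h1.symm
  have h1 : φ.rangeRestrict ⟨a, haN⟩ ∈ (P'.mapSurjective φ.rangeRestrict_surjective : Subgroup φ.range) := by
    rw [htop]; exact mem_top _
  rw [Sylow.coe_mapSurjective] at h1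
  obtain ⟨p, hp, hpa⟩ := h1
  refine ⟨p, mem_subgroupOf.1 hp, ?_⟩
  have h3 : φ p = φ ⟨a, haN⟩ := congrArg Subtype.val hpa
  have h4 := congrArg (fun f : MulAut ↥(zpowers x) => ((f ⟨x, mem_zpowers x⟩ : ↥(zpowers x)) : G)) h3
  have h5 : (p : G) * x * (p : G)⁻¹ = a * x * a⁻¹ := h4
  rw [h5, ha]

/-- `x` is not conjugate to both `x⁻¹` and `x³`. -/
theorem not_both {P : Sylow 2 G} {x : G} (hx : x ∈ P) (ho : 2 * orderOf x = Nat.card (P : Subgroup G))
    (h8 : ¬ orderOf x ∣ 4) (h1 : IsConj x (x⁻¹)) (h3 : IsConj x (x ^ 3)) : False := by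
  obtain ⟨a, ha⟩ := isConj_iff.1 h1
  obtain ⟨b, hb⟩ := isConj_iff.1 h3
  obtain ⟨p, hp, hpx⟩ := exists_mem_sylow hx ho (a := a) (j := -1) (by rw [ha, zpow_neg_one])
  obtain ⟨r, hr, hrx⟩ := exists_mem_sylow hx ho (a := b) (j := 3) (by rw [hb]; norm_cast)
  rw [zpow_neg_one] at hpx
  have hrx' : r * x * r⁻¹ = x ^ 3 := by rw [hrx]; norm_cast
  have hpn : p ∉ zpowers x := by
    intro hpz
    have hc : p * x * p⁻¹ = x := by
      rw [mul_inv_eq_iff_eq_mul]
      obtain ⟨k, rfl⟩ := mem_zpowers_iff.1 hpz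
      exact ((Commute.refl x).zpow_left k).eq
    rw [hc] at hpx
    apply h8
    have h2 : x ^ 2 = 1 := by
      rw [sq]; nth_rw 2 [hpx]; exact mul_inv_cancel x
    exact orderOf_dvd_of_pow_eq_one (by rw [show (4 : ℕ) = 2 * 2 from rfl, pow_mul, h2, one_pow])
  have hrn : r ∉ zpowers x := by
    intro hrz
    have hc : r * x * r⁻¹ = x := by
      rw [mul_inv_eq_iff_eq_mul]
      obtain ⟨k, rfl⟩ := mem_zpowers_iff.1 hrz
      exact ((Commute.refl x).zpow_left k).eq
    rw [hc] at hrx'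
    apply h8
    have h2 : x ^ 2 = 1 := by
      have h4 : x * x ^ 2 = x * 1 := by rw [mul_one, ← pow_succ', ← hrx']
      exact mul_left_cancel h4
    exact orderOf_dvd_of_pow_eq_one (by rw [show (4 : ℕ) = 2 * 2 from rfl, pow_mul, h2, one_pow])
  have hpr := mul_mem_zpowers hx ho (inv_mem hp) hr (fun h => hpn (inv_mem_iff.1 h)) hrn
  obtain ⟨k, hk⟩ := mem_zpowers_iff.1 hpr
  have hr' : r = p * x ^ k := by rw [hk]; group
  have h4 : r * x * r⁻¹ = x⁻¹ := by
    rw [hr', ← hpx]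
    group
  rw [h4] at hrx'
  apply h8
  apply orderOf_dvd_of_pow_eq_one
  calc x ^ 4 = x * x ^ 3 := by rw [← pow_succ']
    _ = x * x⁻¹ := by rw [← hrx']
    _ = 1 := mul_inv_cancel x

omit [Finite G] in
theorem isConj_orderOf {a b : G} (h : IsConj a b) : orderOf a = orderOf b := by
  obtain ⟨g, hg⟩ := isConj_iff.1 h
  have h1 : MulAut.conj g a = b := hg
  rw [← h1]
  exact ((MulAut.conj g).orderOf_eq a).symm

end gp

section five

variable {G : Type u} [Group G] [Finite G] {M : Ideal AlgInt}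

/-- At most three classes of nontrivial 2-elements. -/
theorem card_le_three (hM : IsPModular 2 M) (h : Five M G) (T : Finset G) (hT : ∀ x ∈ T, El x)
    (hinj : ∀ x ∈ T, ∀ y ∈ T, IsConj x y → x = y) : T.card ≤ 3 := by
  refine le_trans ?_ (h.sum_wt_le hM T hT hinj)
  calc T.card = ∑ _x ∈ T, 1 := by simp
    _ ≤ ∑ x ∈ T, wt x := Finset.sum_le_sum fun x _ => one_le_wt x

theorem maxClass (hM : IsPModular 2 M) (h : Five M G) (h16 : 16 ∣ Nat.card G) (P : Sylow 2 G) (u : G) (hu : u ∈ P)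
    (ho : 2 * orderOf u = Nat.card (P : Subgroup G)) (_hnc : ∃ a ∈ P, ∃ b ∈ P, a * b ≠ b * a) : False := by
  classical
  have h2 : Fact (Nat.Prime 2) := ⟨Nat.prime_two⟩
  have h16' : 2 ^ 4 ∣ Nat.card (P : Subgroup G) := P.pow_dvd_card_of_pow_dvd_card (n := 4) (by norm_num; exact h16)
  obtain ⟨m, hm⟩ : ∃ m : ℕ, orderOf u = 2 ^ m := by
    obtain ⟨k, hk⟩ := IsPGroup.iff_orderOf.1 P.isPGroup' ⟨u, hu⟩
    exact ⟨k, by rw [← hk]; exact (Subgroup.orderOf_mk u hu).symm⟩
  have hm3 : 3 ≤ m := by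
    rw [← ho, hm, ← pow_succ'] at h16'
    have := (Nat.pow_dvd_pow_iff_le_right (by norm_num : 1 < 2)).1 h16'
    omega
  have h8 : ¬ orderOf u ∣ 4 := by
    rw [hm]
    intro hd
    have := (Nat.pow_dvd_pow_iff_le_right (by norm_num : 1 < 2)).1 (show 2 ^ m ∣ 2 ^ 2 from hd)
    omega
  obtain ⟨v, hv, hvo⟩ : ∃ v : G, ¬ IsConj u v ∧ orderOf v = 2 ^ m := by
    by_cases h1 : IsConj u (u⁻¹)
    · refine ⟨u ^ 3, fun h3 => not_both hu ho h8 h1 h3, ?_⟩
      rw [Nat.Coprime.orderOf_pow, hm]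
      rw [hm]
      exact Nat.Coprime.pow_left _ (by norm_num)
    · exact ⟨u⁻¹, h1, by rw [orderOf_inv, hm]⟩
  have ha : orderOf (u ^ 2 ^ (m - 1)) = 2 := by
    rw [orderOf_pow_of_dvd (pow_ne_zero _ two_ne_zero) (by rw [hm]; exact pow_dvd_pow 2 (by omega)), hm,
      Nat.pow_div (by omega) (by norm_num)]
    rw [show m - (m - 1) = 1 by omega, pow_one]
  have hb : orderOf (u ^ 2 ^ (m - 2)) = 4 := by
    rw [orderOf_pow_of_dvd (pow_ne_zero _ two_ne_zero) (by rw [hm]; exact pow_dvd_pow 2 (by omega)), hm,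
      Nat.pow_div (by omega) (by norm_num)]
    rw [show m - (m - 2) = 2 by omega]
  have h8' : 8 ≤ 2 ^ m := by
    calc 8 = 2 ^ 3 := by norm_num
      _ ≤ 2 ^ m := Nat.pow_le_pow_right (by norm_num) hm3
  have key : ∀ x y : G, orderOf x ≠ orderOf y → ¬ IsConj x y := fun x y h1 h2 => h1 (isConj_orderOf h2)
  have hne : ∀ x y : G, ¬ IsConj x y → x ≠ y := fun x y h1 h2 => h1 (h2 ▸ IsConj.refl x)
  have hab : ¬ IsConj (u ^ 2 ^ (m - 1)) (u ^ 2 ^ (m - 2)) := key _ _ (by rw [ha, hb]; norm_num)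
  have hau : ¬ IsConj (u ^ 2 ^ (m - 1)) u := key _ _ (by rw [ha, hm]; omega)
  have hav : ¬ IsConj (u ^ 2 ^ (m - 1)) v := key _ _ (by rw [ha, hvo]; omega)
  have hbu : ¬ IsConj (u ^ 2 ^ (m - 2)) u := key _ _ (by rw [hb, hm]; omega)
  have hbv : ¬ IsConj (u ^ 2 ^ (m - 2)) v := key _ _ (by rw [hb, hvo]; omega)
  have hcard : ({u ^ 2 ^ (m - 1), u ^ 2 ^ (m - 2), u, v} : Finset G).card = 4 := by
    rw [Finset.card_insert_of_notMem, Finset.card_insert_of_notMem, Finset.card_insert_of_notMem,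
      Finset.card_singleton]
    · simpa using hne _ _ hv
    · simp only [Finset.mem_insert, Finset.mem_singleton, not_or]
      exact ⟨hne _ _ hbu, hne _ _ hbv⟩
    · simp only [Finset.mem_insert, Finset.mem_singleton, not_or]
      exact ⟨hne _ _ hab, hne _ _ hau, hne _ _ hav⟩
  have hEl : ∀ x : G, (∃ k : ℕ, orderOf x = 2 ^ k) → orderOf x ≠ 1 → El x := fun x h1 h2 =>
    ⟨h1, fun h3 => h2 (by rw [h3, orderOf_one])⟩
  have hfin := card_le_three hM h {u ^ 2 ^ (m - 1), u ^ 2 ^ (m - 2), u, v}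
    (by
      intro x hx
      simp only [Finset.mem_insert, Finset.mem_singleton] at hx
      rcases hx with rfl | rfl | rfl | rfl
      · exact hEl _ ⟨1, by rw [ha, pow_one]⟩ (by rw [ha]; norm_num)
      · exact hEl _ ⟨2, by rw [hb]; norm_num⟩ (by rw [hb]; norm_num)
      · exact hEl _ ⟨m, hm⟩ (by rw [hm]; omega)
      · exact hEl _ ⟨m, hvo⟩ (by rw [hvo]; omega))
    (by
      intro x hx y hy hxy
      simp only [Finset.mem_insert, Finset.mem_singleton] at hx hy
      rcases hx with rfl | rfl | rfl | rfl <;> rcases hy with rfl | rfl | rfl | rfl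
      all_goals first
        | rfl
        | exact absurd hxy hab
        | exact absurd hxy.symm hab
        | exact absurd hxy hau
        | exact absurd hxy.symm hau
        | exact absurd hxy hav
        | exact absurd hxy.symm hav
        | exact absurd hxy hbu
        | exact absurd hxy.symm hbu
        | exact absurd hxy hbv
        | exact absurd hxy.symm hbv
        | exact absurd hxy hv
        | exact absurd hxy.symm hv)
  rw [hcard] at hfin
  omega

/-- The row `PSL₂(q)`, `q` odd. -/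
theorem row_l2odd {S : Subgroup G} (h : Sit M G S) (e : IsL2odd S) : False := by
  classical
  have h2 : Fact (Nat.Prime 2) := ⟨Nat.prime_two⟩
  obtain ⟨F, _, _, hodd, -, ⟨f⟩⟩ := e
  let R := GH.L2Aut.Rep.ofEquiv (GH.L2Aut.two_ne_zero_of_odd hodd) f
  let Q : Sylow 2 S := default
  obtain ⟨d, r, hd⟩ := R.exists_dih Q
  have hp : IsPGroup 2 ((Q : Subgroup S).map S.subtype) := Q.isPGroup'.map _
  have hi : ¬ 2 ∣ ((Q : Subgroup S).map S.subtype).index := by
    rw [Subgroup.index_map_subtype]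
    intro h3
    rcases (Nat.Prime.dvd_mul Nat.prime_two).1 h3 with h4 | h4
    · exact Q.not_dvd_index h4
    · exact (Nat.not_even_iff_odd.2 h.odd) (even_iff_two_dvd.2 h4)
  let P : Sylow 2 G := hp.toSylow hi
  have hP : (P : Subgroup G) = (Q : Subgroup S).map S.subtype := rfl
  have hcardP : Nat.card (P : Subgroup G) = Nat.card (Q : Subgroup S) := by
    rw [hP]
    exact (Nat.card_congr ((Q : Subgroup S).equivMapOfInjective _ S.subtype_injective).toEquiv).symm
  have hdr : ∀ k : ℤ, d ^ k * r ∉ zpowers d := fun k hk => hd.r_not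
    ((Subgroup.mul_mem_cancel_left _ (zpow_mem (mem_zpowers d) k)).1 hk)
  have hcardQ : Nat.card (Q : Subgroup S) = 2 * orderOf d := by
    have h3 : ((zpowers d).subgroupOf (Q : Subgroup S)).index = 2 := by
      rw [Subgroup.index_eq_two_iff]
      refine ⟨⟨r, hd.r_mem⟩, fun b => ?_⟩
      rw [mem_subgroupOf, mem_subgroupOf]
      rcases hd.cov b.1 b.2 with h4 | ⟨k, h4⟩
      · refine Or.inr ⟨h4, fun h5 => hd.r_not ?_⟩
        exact (Subgroup.mul_mem_cancel_left _ h4).1 h5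
      · refine Or.inl ⟨?_, ?_⟩
        · change b.1 * r ∈ _
          rw [h4, mul_assoc, hd.rr, mul_one]
          exact zpow_mem (mem_zpowers d) k
        · rw [h4]; exact hdr k
    have h4 := Subgroup.card_mul_index ((zpowers d).subgroupOf (Q : Subgroup S))
    rw [h3, Nat.card_congr (Subgroup.subgroupOfEquivOfLe (zpowers_le.2 hd.d_mem)).toEquiv,
      Nat.card_zpowers] at h4
    omega
  have hoG : orderOf (d : G) = orderOf d := orderOf_injective S.subtype S.subtype_injective d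
  have hdP : (d : G) ∈ P := ⟨d, hd.d_mem, rfl⟩
  have hrP : (r : G) ∈ P := ⟨r, hd.r_mem, rfl⟩
  have h16' : 2 ^ 4 ∣ Nat.card (P : Subgroup G) :=
    P.pow_dvd_card_of_pow_dvd_card (n := 4) (by norm_num; exact h.dvd)
  refine maxClass h.modular h.five h.dvd P (d : G) hdP (by rw [hoG, hcardP, hcardQ]) ⟨r, hrP, d, hdP, fun hc => ?_⟩
  have hc' : r * d = d * r := Subtype.ext hc
  have h3 : d = d⁻¹ := by
    rw [← hd.rd, hc', mul_assoc, mul_inv_cancel, mul_one]
  have h4 : d ^ 2 = 1 := by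
    rw [sq]; nth_rw 2 [h3]; exact mul_inv_cancel d
  have h5 := Nat.le_of_dvd two_pos (orderOf_dvd_of_pow_eq_one h4)
  rw [hcardP, hcardQ] at h16'
  have h6 := Nat.le_of_dvd (by have := orderOf_pos d; omega) h16'
  omega

end five

end Cfsg.Agent.H115.K5
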